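import Cfsg.Agent.IsolatedRankTwo.MaxClassParity
import Cfsg.Agent.IsolatedRankTwo.PowerHom
import Cfsg.Agent.PGroup.Extraspecial
import Cfsg.Agent.MetacyclicFusion.Odd
import Cfsg.Agent.Eq.Def_OddOrderLocal
import Cfsg.Agent.S1447
import Cfsg.Agent.S3888

/-!
The Sylow subgroups of a perfect group of `p`-rank at most two with an isolated element of order `p`.
-/

set_option autoImplicit false

open scoped commutatorElement

namespace CfsgLib.IsolatedRankTwo

variable {p : ℕ} [Fact p.Prime]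

/-- In a cyclic group the elements killed by `p` lie in the group of any non-trivial one. -/
theorem mem_zpowers_of_cyclic {C : Type*} [Group C] [Finite C] (hC : IsCyclic C) {a b : C}
    (ha : a ^ p = 1) (hb : b ^ p = 1) (hb1 : b ≠ 1) : a ∈ Subgroup.zpowers b := by
  classical
  haveI := Fintype.ofFinite C
  have hle := IsCyclic.card_pow_eq_one_le (α := C) (Fact.out : p.Prime).pos
  have hsub : (Subgroup.zpowers b : Set C).toFinset ⊆
      (Finset.univ.filter fun u : C => u ^ p = 1) := by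
    intro u hu
    simp only [Set.mem_toFinset, SetLike.mem_coe] at hu
    obtain ⟨i, rfl⟩ := Subgroup.mem_zpowers_iff.mp hu
    rw [Finset.mem_filter]
    refine ⟨Finset.mem_univ _, ?_⟩
    rw [← zpow_natCast, ← zpow_mul, mul_comm, zpow_mul, zpow_natCast, hb, one_zpow]
  have heq := Finset.eq_of_subset_of_card_le hsub (le_trans hle (le_of_eq (by
    rw [Set.toFinset_card, ← Nat.card_eq_fintype_card]
    exact ((Nat.card_zpowers b).trans (orderOf_eq_prime hb hb1)).symm)))
  have hmem : a ∈ (Finset.univ.filter fun u : C => u ^ p = 1) :=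
    Finset.mem_filter.mpr ⟨Finset.mem_univ _, ha⟩
  rw [← heq] at hmem
  simpa using hmem

variable {K : Type*} [Group K] [Finite K] {x : K}

/-- A perfect group with an isolated element of order `p` has no metacyclic Sylow `p`-subgroup
through it, `p` odd. -/
theorem not_isMetacyclic (hp2 : p ≠ 2) (hperf : commutator K = ⊤) (P : Sylow p K)
    (hiso : Cfsg.IsIsolated x) (hxP : x ∈ (P : Subgroup K)) (hxp : x ^ p = 1) (hx1 : x ≠ 1) :
    ¬ Cfsg.IsMetacyclic ↥(P : Subgroup K) := by
  intro hm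
  have hp : p.Prime := Fact.out
  set x0 : ↥(P : Subgroup K) := ⟨x, hxP⟩
  have hx0 : x0 ∈ commutator ↥(P : Subgroup K) := mem_commutator_sylow hperf P hiso hxP hxp
  have hx01 : x0 ≠ 1 := fun h => hx1 (congrArg Subtype.val h)
  set N := Subgroup.normalizer ((P : Subgroup K) : Set K) with hN
  haveI hn : ((P : Subgroup K).subgroupOf N).Normal := Subgroup.normal_in_normalizer
  have hndvd : ¬ p ∣ ((P : Subgroup K).subgroupOf N).index :=
    (P.subtype Subgroup.le_normalizer).not_dvd_index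
  obtain ⟨k, hk⟩ := IsPGroup.iff_card.1 (P.2.of_equiv (Subgroup.subgroupOfEquivOfLe
    (Subgroup.le_normalizer (H := (P : Subgroup K)))).symm)
  obtain ⟨A₀, hA₀⟩ := Subgroup.exists_right_complement'_of_coprime
    (N := (P : Subgroup K).subgroupOf N) (by
      rw [hk]; exact ((hp.coprime_iff_not_dvd).2 hndvd).pow_left k)
  set A := A₀.map N.subtype with hA
  have hAN : A ≤ N := Subgroup.map_subtype_le _
  have hAcop : (Nat.card A).Coprime p := by
    rw [hA, Subgroup.card_map_of_injective N.subtype_injective, Nat.coprime_comm,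
      hp.coprime_iff_not_dvd]
    intro hd
    refine hndvd ?_
    rwa [hA₀.symm.index_eq_card]
  have hNle : N ≤ (P : Subgroup K) ⊔ A := by
    intro g hg
    have h1 : (⟨g, hg⟩ : N) ∈ (P : Subgroup K).subgroupOf N ⊔ A₀ := by
      rw [hA₀.sup_eq_top]; exact Subgroup.mem_top _
    have h2 := Subgroup.mem_map_of_mem N.subtype h1
    rw [Subgroup.map_sup, Subgroup.map_subgroupOf_eq_of_le Subgroup.le_normalizer] at h2
    exact h2
  by_cases hAc : A ≤ Subgroup.centralizer ((P : Subgroup K) : Set K)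
  swap
  · have h := (Cfsg.Agent.S1447.result p hp2 (P : Subgroup K) A P.2 hm hAN hAcop)
    have hnab : ¬ IsMulCommutative ↥(P : Subgroup K) := by
      intro hc
      refine hx01 ?_
      have : commutator ↥(P : Subgroup K) = ⊥ := by
        rw [eq_bot_iff, commutator_def, Subgroup.commutator_le]
        exact fun a _ b _ => Subgroup.mem_bot.2
          (commutatorElement_eq_one_iff_mul_comm.2 (hc.is_comm.comm a b))
      rwa [this, Subgroup.mem_bot] at hx0
    obtain ⟨-, -, -, -, hle⟩ := h.2.2.2 hnab hAc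
    refine hx1 (Subgroup.mem_bot.1 (h.2.2.1 ▸ ⟨hle ?_, hxP, ?_⟩))
    · rw [← Subgroup.map_subtype_commutator]
      exact Subgroup.mem_map_of_mem _ hx0
    · intro a ha
      have := CfsgLib.LocalP.isolated_eq_of_mem hiso P.2 hxP
        ((Subgroup.mem_normalizer_iff.1 (hAN ha) x).1 hxP)
      calc a * x = a * x * a⁻¹ * a := by group
        _ = x * a := by rw [this]
  -- `A` centralises `P`
  obtain ⟨E, hEc, hEcard, hE⟩ := CfsgLib.MetacyclicFusion.exists_omega hp2 P.2 hm
  set Eg := E.map (P : Subgroup K).subtype with hEg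
  have hEgP : Eg ≤ (P : Subgroup K) := Subgroup.map_subtype_le _
  have hmem : ∀ y : K, y ∈ Eg ↔ y ∈ (P : Subgroup K) ∧ y ^ p = 1 := by
    intro y
    refine ⟨?_, fun hy => ⟨⟨y, hy.1⟩, (hE _).2 (Subtype.ext hy.2), rfl⟩⟩
    rintro ⟨z, hz, rfl⟩
    exact ⟨z.2, congrArg Subtype.val ((hE z).1 hz)⟩
  have hxE : x ∈ Eg := (hmem x).2 ⟨hxP, hxp⟩
  have hfix : ∀ g ∈ Subgroup.normalizer (Eg : Set K), g * x * g⁻¹ = x := fun g hg =>
    CfsgLib.LocalP.isolated_eq_of_mem hiso P.2 hxP
      (hEgP ((Subgroup.mem_normalizer_iff.1 hg x).1 hxE))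
  let M : Subgroup K :=
    { carrier := {g | g ∈ Subgroup.normalizer (Eg : Set K) ∧ ∀ y ∈ Eg, ⁅g, y⁆ ∈ Subgroup.zpowers x}
      one_mem' := ⟨one_mem _, fun y _ => by simp⟩
      mul_mem' := by
        rintro g g' ⟨hg, hg'⟩ ⟨hk, hk'⟩
        refine ⟨mul_mem hg hk, fun y hy => ?_⟩
        rw [show ⁅g * g', y⁆ = g * ⁅g', y⁆ * g⁻¹ * ⁅g, y⁆ by
          simp only [commutatorElement_def]; group]
        obtain ⟨i, hi⟩ := Subgroup.mem_zpowers_iff.1 (hk' y hy)
        rw [← hi, ← conj_zpow, hfix g hg]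
        exact mul_mem (zpow_mem (Subgroup.mem_zpowers x) i) (hg' y hy)
      inv_mem' := by
        rintro g ⟨hg, hg'⟩
        refine ⟨inv_mem hg, fun y hy => ?_⟩
        rw [show ⁅g⁻¹, y⁆ = g⁻¹ * ⁅g, y⁆⁻¹ * g⁻¹⁻¹ by simp only [commutatorElement_def]; group]
        obtain ⟨i, hi⟩ := Subgroup.mem_zpowers_iff.1 (inv_mem (hg' y hy))
        rw [← hi, ← conj_zpow, hfix _ (inv_mem hg)]
        exact zpow_mem (Subgroup.mem_zpowers x) i }
  have hPM : (P : Subgroup K) ≤ M := by
    intro u hu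
    have hconj : ∀ u ∈ (P : Subgroup K), ∀ y ∈ Eg, u * y * u⁻¹ ∈ Eg := fun u hu y hy => by
      obtain ⟨hyP, hyp⟩ := (hmem y).1 hy
      exact (hmem _).2 ⟨mul_mem (mul_mem hu hyP) (inv_mem hu), by
        rw [conj_pow, hyp, mul_one, mul_inv_cancel]⟩
    refine ⟨Subgroup.mem_normalizer_fintype fun y hy => hconj u hu y hy, fun y hy => ?_⟩
    have hyP := ((hmem y).1 hy).1
    have hcE : ⁅u, y⁆ ∈ Eg := by
      rw [commutatorElement_def]; exact mul_mem (hconj u hu y hy) (inv_mem hy)
    obtain ⟨C, hCn, hCc, hQc⟩ := hm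
    haveI := hCn
    haveI := hQc
    have hle : commutator ↥(P : Subgroup K) ≤ C := by
      rw [commutator_def, Subgroup.commutator_le]
      intro a _ b _
      rw [← QuotientGroup.eq_one_iff]
      show QuotientGroup.mk' C ⁅a, b⁆ = 1
      rw [map_commutatorElement, commutatorElement_eq_one_iff_mul_comm]
      exact (IsCyclic.commGroup (α := ↥(P : Subgroup K) ⧸ C)).mul_comm _ _
    set c : ↥(P : Subgroup K) := ⁅(⟨u, hu⟩ : ↥(P : Subgroup K)), (⟨y, hyP⟩ : ↥(P : Subgroup K))⁆
    have hcC : c ∈ C := hle (Subgroup.commutator_mem_commutator (Subgroup.mem_top _) (Subgroup.mem_top _))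
    obtain ⟨i, hi⟩ := Subgroup.mem_zpowers_iff.1 (mem_zpowers_of_cyclic (p := p) hCc
      (a := (⟨c, hcC⟩ : ↥C)) (b := (⟨x0, hle hx0⟩ : ↥C))
      (Subtype.ext (Subtype.ext (by simpa [c, commutatorElement_def] using ((hmem _).1 hcE).2)))
      (Subtype.ext (Subtype.ext (by simpa [x0] using hxp)))
      (fun h => hx01 (congrArg Subtype.val h)))
    exact Subgroup.mem_zpowers_iff.2 ⟨i, by
      have := congrArg (fun t : ↥C => ((t : ↥(P : Subgroup K)) : K)) hi
      simpa [x0, c, commutatorElement_def] using this⟩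
  have hAM : A ≤ M := by
    intro a ha
    have hac : ∀ y ∈ Eg, a * y = y * a := fun y hy => (hAc ha y (hEgP hy)).symm
    refine ⟨Subgroup.mem_normalizer_fintype fun y hy => ?_, fun y hy => ?_⟩
    · rw [hac y hy, mul_inv_cancel_right]; exact hy
    · rw [commutatorElement_eq_one_iff_mul_comm.2 (hac y hy)]; exact one_mem _
  have hNM : N ≤ M := hNle.trans (sup_le hPM hAM)
  have hdiv : p ∣ Nat.card K := by
    refine dvd_trans ?_ ((P : Subgroup K).card_subgroup_dvd_card)
    have h1 := Subgroup.orderOf_dvd_natCard _ hxP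
    rwa [orderOf_eq_prime hxp hx1] at h1
  refine commutator_ne_top_of_fusion hp2 P hdiv hiso hxP hxp (fun e he hep g hge => ?_) hperf
  set e' := g * e * g⁻¹ with he'
  have hxc : x ∈ Subgroup.centralizer ({e'} : Set K) := Subgroup.mem_centralizer_singleton_iff.2
    (CfsgLib.LocalP.isolated_commute_of_mem hiso P.2 hxP _ hge)
  have hgxc : g * x * g⁻¹ ∈ Subgroup.centralizer ({e'} : Set K) := by
    rw [Subgroup.mem_centralizer_singleton_iff, he']
    calc g * x * g⁻¹ * (g * e * g⁻¹) = g * (x * e) * g⁻¹ := by group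
      _ = g * (e * x) * g⁻¹ := by rw [CfsgLib.LocalP.isolated_commute_of_mem hiso P.2 hxP _ he]
      _ = _ := by group
  obtain ⟨c, hc, hcx⟩ := CfsgLib.LocalP.isolated_conj_in hiso (p := p)
    ⟨1, by rw [pow_one]; exact orderOf_eq_prime hxp hx1⟩ _ hxc hgxc
  set f := c * g with hf
  have hfx : f * x * f⁻¹ = x := Eq.trans (by rw [hf]; group) hcx
  have hfe : f * e * f⁻¹ = e' := by
    rw [hf, show c * g * e * (c * g)⁻¹ = c * (g * e * g⁻¹) * c⁻¹ by group, ← he',
      Subgroup.mem_centralizer_singleton_iff.1 hc, mul_inv_cancel_right]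
  by_cases hex : e ∈ Subgroup.zpowers x
  · obtain ⟨i, rfl⟩ := Subgroup.mem_zpowers_iff.1 hex
    rw [← hfe, ← conj_zpow, hfx, mul_inv_cancel]
    exact one_mem _
  have heE : e ∈ Eg := (hmem e).2 ⟨he, hep⟩
  have he'E : e' ∈ Eg := (hmem e').2 ⟨hge, by rw [he', conj_pow, hep, mul_one, mul_inv_cancel]⟩
  have hgen : Subgroup.zpowers x ⊔ Subgroup.zpowers e = Eg := by
    refine Subgroup.eq_of_le_of_card_ge
      (sup_le (Subgroup.zpowers_le.2 hxE) (Subgroup.zpowers_le.2 heE)) ?_
    rw [hEg, Subgroup.card_map_of_injective (Subgroup.subtype_injective _)]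
    refine hEcard.trans ?_
    have hlt : Subgroup.zpowers x < Subgroup.zpowers x ⊔ Subgroup.zpowers e :=
      lt_of_le_of_ne le_sup_left fun h =>
        hex (h ▸ Subgroup.mem_sup_right (Subgroup.mem_zpowers e))
    obtain ⟨r, hr⟩ := IsPGroup.iff_card.1 (P.2.to_le
      (sup_le (Subgroup.zpowers_le.2 hxP) (Subgroup.zpowers_le.2 he)))
    have h1 : Nat.card (Subgroup.zpowers x) < Nat.card ↥(Subgroup.zpowers x ⊔ Subgroup.zpowers e) :=
      lt_of_le_of_ne (Subgroup.card_le_of_le hlt.le)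
        fun he' => hlt.ne (Subgroup.eq_of_le_of_card_ge hlt.le he'.ge)
    rw [hr, Nat.card_zpowers, orderOf_eq_prime hxp hx1] at h1
    rw [hr]
    refine Nat.pow_le_pow_right hp.pos ?_
    by_contra hr2
    have : p ^ r ≤ p ^ 1 := Nat.pow_le_pow_right hp.pos (by omega)
    rw [pow_one] at this
    omega
  have hfN : f ∈ Subgroup.normalizer (Eg : Set K) := by
    refine Subgroup.mem_normalizer_fintype fun y hy => ?_
    have hle : Eg ≤ Eg.comap (MulAut.conj f).toMonoidHom := by
      conv_lhs => rw [← hgen]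
      refine sup_le (Subgroup.zpowers_le.2 ?_) (Subgroup.zpowers_le.2 ?_)
      · show f * x * f⁻¹ ∈ Eg; rw [hfx]; exact hxE
      · show f * e * f⁻¹ ∈ Eg; rw [hfe]; exact he'E
    exact hle hy
  have hfP : (P : Subgroup K).map (MulAut.conj f).toMonoidHom ≤ M := by
    rintro _ ⟨u, hu, rfl⟩
    obtain ⟨hu1, hu2⟩ := hPM hu
    refine ⟨mul_mem (mul_mem hfN hu1) (inv_mem hfN), fun y hy => ?_⟩
    show ⁅f * u * f⁻¹, y⁆ ∈ _
    rw [show ⁅f * u * f⁻¹, y⁆ = f * ⁅u, f⁻¹ * y * f⁻¹⁻¹⁆ * f⁻¹ by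
      simp only [commutatorElement_def]; group]
    obtain ⟨i, hi⟩ := Subgroup.mem_zpowers_iff.1
      (hu2 _ ((Subgroup.mem_normalizer_iff.1 (inv_mem hfN) y).1 hy))
    rw [← hi, ← conj_zpow, hfx]
    exact zpow_mem (Subgroup.mem_zpowers x) i
  obtain ⟨m, hm', hmP⟩ := CfsgLib.PGroup.MaxClass.exists_conj_of_largest hPM hfP P.2 (P.2.map _)
    (fun T _ hT => by
      obtain ⟨R, hR⟩ := hT.exists_le_sylow
      refine (Subgroup.card_le_of_le hR).trans (le_of_eq ?_)
      rw [R.card_eq_multiplicity, ← P.card_eq_multiplicity])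
    (Subgroup.card_map_of_injective (MulEquiv.injective _))
  have hmf : m * f ∈ M := hNM (Subgroup.mem_normalizer_fintype fun u hu => by
    rw [SetLike.mem_coe, ← hmP]
    exact ⟨f * u * f⁻¹, ⟨u, hu, rfl⟩, by simp [mul_assoc]⟩)
  have hfM : f ∈ M := by simpa using mul_mem (inv_mem hm') hmf
  rw [← hfe]
  exact hfM.2 e heE

/-- The shape of a Sylow subgroup through an isolated element of order `p` of a perfect group of
`p`-rank at most two. -/
theorem sylow_structure (hp2 : p ≠ 2) (hperf : commutator K = ⊤) (hrk : Cfsg.PRankLE p 2 K)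
    (P : Sylow p K) (hiso : Cfsg.IsIsolated x) (hxP : x ∈ (P : Subgroup K)) (hx : orderOf x = p) :
    (Cfsg.IsExtraspecial p ↥(P : Subgroup K) ∧ Nat.card (P : Subgroup K) = p ^ 3 ∧
        ∀ y ∈ (P : Subgroup K), y ^ p = 1) ∨
      (p = 3 ∧ ∃ k : ℕ, 2 ≤ k ∧ Nat.card (P : Subgroup K) = 3 ^ (2 * k + 1) ∧
        ∃ _ : Group.IsNilpotent ↥(P : Subgroup K),
          Group.nilpotencyClass ↥(P : Subgroup K) = 2 * k) := by
  have hp : p.Prime := Fact.out
  have hxp : x ^ p = 1 := hx ▸ pow_orderOf_eq_one x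
  have hx1 : x ≠ 1 := fun h => hp.one_lt.ne' (by rw [← hx, h, orderOf_one])
  have hmeta := not_isMetacyclic hp2 hperf P hiso hxP hxp hx1
  set x0 : ↥(P : Subgroup K) := ⟨x, hxP⟩ with hx0def
  have hx0 : x0 ∈ commutator ↥(P : Subgroup K) := mem_commutator_sylow hperf P hiso hxP hxp
  have hx01 : x0 ≠ 1 := fun h => hx1 (congrArg Subtype.val h)
  have hx0c : x0 ∈ Subgroup.center ↥(P : Subgroup K) := Subgroup.mem_center_iff.2 fun u =>
    Subtype.ext (CfsgLib.LocalP.isolated_commute_of_mem hiso P.2 hxP _ u.2).symm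
  have hx0p : x0 ^ p = 1 := Subtype.ext hxp
  have hnc : ¬ ∀ a b : ↥(P : Subgroup K), a * b = b * a := fun h => hx01 (by
    have : commutator ↥(P : Subgroup K) = ⊥ := by
      rw [eq_bot_iff, commutator_def, Subgroup.commutator_le]
      exact fun a _ b _ => Subgroup.mem_bot.2 (commutatorElement_eq_one_iff_mul_comm.2 (h a b))
    rwa [this, Subgroup.mem_bot] at hx0)
  have hrkP : Cfsg.PRankLE p 2 ↥(P : Subgroup K) := CfsgLib.LocalP.pRankLE_subgroup hrk _
  obtain ⟨n, hn⟩ := IsPGroup.iff_card.1 P.2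
  have hn3 : 3 ≤ n := by
    by_contra hn2
    refine hnc ?_
    rcases (show n ≤ 1 ∨ n = 2 by omega) with h1 | rfl
    · haveI : IsCyclic ↥(P : Subgroup K) := by
        rcases (show n = 0 ∨ n = 1 by omega) with rfl | rfl
        · haveI : Subsingleton ↥(P : Subgroup K) :=
            (Nat.card_eq_one_iff_unique.1 (by rw [hn, pow_zero])).1
          exact isCyclic_of_subsingleton
        · exact isCyclic_of_prime_card (p := p) (by rw [hn, pow_one])
      exact fun a b => (IsCyclic.commGroup (α := ↥(P : Subgroup K))).mul_comm a b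
    · exact fun a b => IsPGroup.commutative_of_card_eq_prime_sq hn a b
  rcases eq_or_lt_of_le hn3 with rfl | hn4
  · refine Or.inl ?_
    have hexp : ∀ y : ↥(P : Subgroup K), y ^ p = 1 := by
      intro y
      by_contra hy
      refine hmeta ?_
      obtain ⟨r, hr⟩ := IsPGroup.iff_orderOf.1 P.2 y
      have hr3 : r ≤ 3 := (Nat.pow_dvd_pow_iff_le_right hp.one_lt).1
        (hr ▸ hn ▸ orderOf_dvd_natCard y)
      have hr2 : 2 ≤ r := by
        by_contra hr2
        refine hy ?_
        rw [← orderOf_dvd_iff_pow_eq_one, hr]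
        exact (pow_dvd_pow p (show r ≤ 1 by omega)).trans (by rw [pow_one])
      have hr2' : r = 2 := by
        by_contra hne
        have hr' : r = 3 := by omega
        subst hr'
        haveI : IsCyclic ↥(P : Subgroup K) := isCyclic_of_orderOf_eq_card y (by rw [hr, hn])
        exact hnc fun a b => (IsCyclic.commGroup (α := ↥(P : Subgroup K))).mul_comm a b
      subst hr2'
      set Y := Subgroup.zpowers y
      have hidx : Y.index = p := by
        have h1 := Y.card_mul_index
        rw [Nat.card_zpowers, hr, hn, show p ^ 3 = p ^ 2 * p from pow_succ p 2] at h1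
        exact Nat.eq_of_mul_eq_mul_left (pow_pos hp.pos 2) h1
      haveI hYn : Y.Normal := by
        haveI := P.2.isNilpotent
        exact Subgroup.NormalizerCondition.normal_of_coatom Y
          Group.normalizerCondition_of_isNilpotent (CfsgLib.PGroup.isCoatom_of_index_eq hidx)
      exact ⟨Y, hYn, inferInstance, isCyclic_of_prime_card (p := p) hidx⟩
    refine ⟨?_, hn, fun y hy => congrArg Subtype.val (hexp ⟨y, hy⟩)⟩
    have hZ : Nat.card (Subgroup.center ↥(P : Subgroup K)) = p := by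
      obtain ⟨r, hr⟩ := IsPGroup.iff_card.1 (P.2.to_subgroup (Subgroup.center ↥(P : Subgroup K)))
      have hr0 : r ≠ 0 := by
        rintro rfl
        rw [pow_zero, Subgroup.card_eq_one] at hr
        exact hx01 (by rwa [hr, Subgroup.mem_bot] at hx0c)
      by_contra hne
      have hr2 : 2 ≤ r := by
        by_contra h
        exact hne (by rw [hr, show r = 1 by omega, pow_one])
      have h1 := (Subgroup.center ↥(P : Subgroup K)).card_mul_index
      rw [hr, hn] at h1
      have h2 : (Subgroup.center ↥(P : Subgroup K)).index ∣ p := by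
        have h3 : p ^ 2 * (Subgroup.center ↥(P : Subgroup K)).index ∣ p ^ 2 * p := by
          rw [← pow_succ, ← h1]; exact Nat.mul_dvd_mul_right (pow_dvd_pow p hr2) _
        exact Nat.dvd_of_mul_dvd_mul_left (pow_pos hp.pos 2) h3
      haveI : IsCyclic (↥(P : Subgroup K) ⧸ Subgroup.center ↥(P : Subgroup K)) := by
        rcases (Nat.dvd_prime hp).1 h2 with h | h
        · haveI : Subsingleton (↥(P : Subgroup K) ⧸ Subgroup.center ↥(P : Subgroup K)) :=
            (Nat.card_eq_one_iff_unique.1 h).1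
          exact isCyclic_of_subsingleton
        · exact isCyclic_of_prime_card (p := p) h
      letI := commGroupOfCyclicCenterQuotient (QuotientGroup.mk' (Subgroup.center ↥(P : Subgroup K)))
        (le_of_eq (QuotientGroup.ker_mk' _))
      exact hnc fun a b => mul_comm a b
    refine CfsgLib.PGroup.isExtraspecial_of P.2 hZ (by push Not at hnc; exact hnc) (fun a b => ?_)
      (fun a => by rw [hexp]; exact one_mem _)
    have hq : Nat.card (↥(P : Subgroup K) ⧸ Subgroup.center ↥(P : Subgroup K)) = p ^ 2 := by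
      have h1 := (Subgroup.center ↥(P : Subgroup K)).card_mul_index
      rw [hZ, hn, pow_succ'] at h1
      exact Nat.eq_of_mul_eq_mul_left hp.pos h1
    rw [← QuotientGroup.eq_one_iff]
    show QuotientGroup.mk' _ ⁅a, b⁆ = 1
    rw [map_commutatorElement, commutatorElement_eq_one_iff_mul_comm]
    exact IsPGroup.commutative_of_card_eq_prime_sq hq _ _
  have hfin : ∀ m : ℕ,
      (∀ a b : ↥(P : Subgroup K), (a * b) ^ p ^ m = a ^ p ^ m * b ^ p ^ m) →
      (∀ a : ↥(P : Subgroup K), a ^ p ^ m ∈ Subgroup.zpowers x0) →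
      (∃ a : ↥(P : Subgroup K), a ^ p ^ m ≠ 1) → False := by
    intro m hmul hval hne
    obtain ⟨a, ha⟩ := hne
    refine ha (Subtype.ext ?_)
    refine pow_eq_one_of_powerHom hperf P hiso hxp m (fun y hy => ?_) (fun a ha b hb => ?_) a a.2
    · obtain ⟨i, hi⟩ := Subgroup.mem_zpowers_iff.1 (hval ⟨y, hy⟩)
      exact Subgroup.mem_zpowers_iff.2 ⟨i, by simpa using congrArg Subtype.val hi⟩
    · exact congrArg Subtype.val (hmul ⟨a, ha⟩ ⟨b, hb⟩)
  have hmax : p = 3 →
      Subgroup.lowerCentralSeries (⊤ : Subgroup ↥(P : Subgroup K)) (n - 2) ≠ ⊥ →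
      (p = 3 ∧ ∃ k : ℕ, 2 ≤ k ∧ Nat.card (P : Subgroup K) = 3 ^ (2 * k + 1) ∧
        ∃ _ : Group.IsNilpotent ↥(P : Subgroup K),
          Group.nilpotencyClass ↥(P : Subgroup K) = 2 * k) := by
    intro hp3 hlcs
    subst hp3
    have hM := CfsgLib.PGroup.MaxClass.isMaxCl_of_ne_bot hn hn4 hlcs
    rcases Nat.even_or_odd n with he | ho
    · exact (Setup.false_of_even
        { perf := hperf, rank := hrk, P := P, maxCl := hM, even := he, x := x, iso := hiso,
          memP := hxP, pow3 := hxp, ne1 := hx1 }).elim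
    · obtain ⟨k, rfl⟩ := ho
      refine ⟨rfl, k, by omega, hn, P.2.isNilpotent, ?_⟩
      haveI := P.2.isNilpotent
      have hbot : Subgroup.lowerCentralSeries (⊤ : Subgroup ↥(P : Subgroup K)) (2 * k) = ⊥ :=
        hM.gam_eq_bot (le_refl (2 * k + 1))
      have h1 := Subgroup.lowerCentralSeries_eq_bot_iff_nilpotencyClass_le.1 hbot
      have h2 : ¬ Group.nilpotencyClass ↥(P : Subgroup K) ≤ 2 * k + 1 - 2 := fun h =>
        hlcs (Subgroup.lowerCentralSeries_eq_bot_iff_nilpotencyClass_le.2 h)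
      omega
  rcases Cfsg.Agent.S3888.result hp2 n hn hrkP with hm | ⟨-, a, b, c, hgen, ha, hb, hc, hac, hbc,
      hconj⟩ | ⟨-, s, a, b, c, hs, hgen, ha, hb, hc, hbc, hconj, hconjc⟩ | ⟨hp3, -, hlcs⟩
  · exact absurd hm hmeta
  · obtain ⟨m, h1, h2, h3⟩ :=
      exists_powerHom_central hp2 hn hn4 hrkP hgen ha hb hc hac hbc hconj hx0c hx0p hx01
    exact (hfin m h1 h2 h3).elim
  · rcases exists_powerHom_three hp2 hn hn4 hrkP hs hgen ha hb hc hbc hconj hconjc hx0c hx0p hx01
      with ⟨hp3, -, hlcs⟩ | ⟨m, h1, h2, h3⟩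
    · exact Or.inr (hmax hp3 hlcs)
    · exact (hfin m h1 h2 h3).elim
  · exact Or.inr (hmax hp3 hlcs)

end CfsgLib.IsolatedRankTwo
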